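import Mathlib
import Cfsg.Agent.DL.Cn.Poly

/-!
# Constructible subsets of vector spaces and Chevalley's theorem (helper1)

`Constr k S` : the subset `S` of the `k`-vector space `E` is a Boolean combination of zero sets of polynomial functions.

* Boolean operations, preimages under polynomial maps, products;
* `Constr.exists_form` : normal form (finite union of sets `{g₁ = … = g_n = 0, f ≠ 0}`);
* `Constr.image` : Chevalley's theorem (`k` algebraically closed, finite dimension), `Constr.ex`, `Constr.all`.
-/

set_option autoImplicit false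

namespace Cfsg.Agent.DL.Cn

open MvPolynomial

variable {k : Type*} [Field k] {E E' E'' : Type*} [AddCommGroup E] [Module k E] [AddCommGroup E'] [Module k E']
  [AddCommGroup E''] [Module k E'']

/-- Constructible sets. -/
inductive Constr (k : Type*) [Field k] {E : Type*} [AddCommGroup E] [Module k E] : Set E → Prop
  | zero (f : E → k) (hf : PolyMap k f) : Constr k {x | f x = 0}
  | compl (S : Set E) (hS : Constr k S) : Constr k Sᶜ
  | union (S S' : Set E) (hS : Constr k S) (hS' : Constr k S') : Constr k (S ∪ S')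

namespace Constr

variable {S S' : Set E}

theorem congr (hS : Constr k S) (h : ∀ x, x ∈ S ↔ x ∈ S') : Constr k S' := (Set.ext h : S = S') ▸ hS

theorem univ : Constr k (Set.univ : Set E) :=
  (Constr.zero (fun _ => (0 : k)) (polyMap_const _)).congr fun x => by simp

theorem empty : Constr k (∅ : Set E) := (Constr.compl _ univ).congr fun x => by simp

theorem compl' (hS : Constr k S) : Constr k Sᶜ := Constr.compl _ hS

theorem union' (hS : Constr k S) (hS' : Constr k S') : Constr k (S ∪ S') := Constr.union _ _ hS hS'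

theorem inter (hS : Constr k S) (hS' : Constr k S') : Constr k (S ∩ S') :=
  (hS.compl'.union' hS'.compl').compl'.congr fun x => by simp

theorem diff (hS : Constr k S) (hS' : Constr k S') : Constr k (S \ S') := hS.inter hS'.compl'

theorem biUnion_finset {ι : Type*} (s : Finset ι) {A : ι → Set E} (hA : ∀ i ∈ s, Constr k (A i)) :
    Constr k (⋃ i ∈ s, A i) := by
  classical
  induction s using Finset.induction_on with
  | empty => simpa using empty
  | insert a s _ ih =>
    rw [Finset.set_biUnion_insert]
    exact (hA a (Finset.mem_insert_self _ _)).union' (ih fun i hi => hA i (Finset.mem_insert_of_mem hi))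

theorem biUnion {ι : Type*} {s : Set ι} (hs : s.Finite) {A : ι → Set E} (hA : ∀ i ∈ s, Constr k (A i)) :
    Constr k (⋃ i ∈ s, A i) :=
  (biUnion_finset hs.toFinset fun i hi => hA i (hs.mem_toFinset.1 hi)).congr fun x => by simp

theorem iUnion {ι : Sort*} [Finite ι] {A : ι → Set E} (hA : ∀ i, Constr k (A i)) : Constr k (⋃ i, A i) :=
  (biUnion (s := Set.univ) (Set.toFinite _) (A := fun i : PLift ι => A i.down) fun i _ => hA _).congr fun x => by
    simp [PLift.exists]

theorem iInter {ι : Sort*} [Finite ι] {A : ι → Set E} (hA : ∀ i, Constr k (A i)) : Constr k (⋂ i, A i) :=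
  (iUnion fun i => (hA i).compl').compl'.congr fun x => by simp

theorem biInter {ι : Type*} {s : Set ι} (hs : s.Finite) {A : ι → Set E} (hA : ∀ i ∈ s, Constr k (A i)) :
    Constr k (⋂ i ∈ s, A i) :=
  (biUnion hs fun i hi => (hA i hi).compl').compl'.congr fun x => by simp

theorem preimage {A : Set E'} (hA : Constr k A) {f : E → E'} (hf : PolyMap k f) : Constr k (f ⁻¹' A) := by
  induction hA with
  | zero g hg => exact Constr.zero _ (hg.comp hf)
  | compl A _ ih => exact ih.compl'
  | union A A' _ _ ih ih' => exact ih.union' ih'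

theorem prod {A : Set E'} (hS : Constr k S) (hA : Constr k A) : Constr k (S ×ˢ A) :=
  (hS.preimage (f := fun z : E × E' => z.1) (by fun_prop)).inter (hA.preimage (f := fun z : E × E' => z.2) (by fun_prop))

theorem pi {ι : Type*} [Finite ι] {P : ι → Type*} [∀ i, AddCommGroup (P i)] [∀ i, Module k (P i)]
    {A : ∀ i, Set (P i)} (hA : ∀ i, Constr k (A i)) : Constr k {x : ∀ i, P i | ∀ i, x i ∈ A i} :=
  (iInter fun i => (hA i).preimage (polyMap_apply i)).congr fun x => by simp

/-! the same for predicates -/

variable {P Q : E → Prop}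

theorem and (hP : Constr k {x | P x}) (hQ : Constr k {x | Q x}) : Constr k {x | P x ∧ Q x} := hP.inter hQ

theorem or (hP : Constr k {x | P x}) (hQ : Constr k {x | Q x}) : Constr k {x | P x ∨ Q x} := hP.union' hQ

theorem not (hP : Constr k {x | P x}) : Constr k {x | ¬ P x} := hP.compl'

theorem imp (hP : Constr k {x | P x}) (hQ : Constr k {x | Q x}) : Constr k {x | P x → Q x} :=
  (hP.not.or hQ).congr fun x => by simp only [Set.mem_ofPred_eq]; tauto

theorem mem {A : Set E'} (hA : Constr k A) {f : E → E'} (hf : PolyMap k f) : Constr k {x | f x ∈ A} :=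
  hA.preimage hf

theorem forall_fin {ι : Sort*} [Finite ι] {R : ι → E → Prop} (h : ∀ i, Constr k {x | R i x}) :
    Constr k {x | ∀ i, R i x} := (iInter h).congr fun x => by simp

theorem exists_fin {ι : Sort*} [Finite ι] {R : ι → E → Prop} (h : ∀ i, Constr k {x | R i x}) :
    Constr k {x | ∃ i, R i x} := (iUnion h).congr fun x => by simp

theorem eq [FiniteDimensional k E'] {f g : E → E'} (hf : PolyMap k f) (hg : PolyMap k g) :
    Constr k {x | f x = g x} := by
  let b := Module.finBasis k E'
  refine (forall_fin fun i => Constr.zero _ ((hf.sub hg).linear (b.coord i))).congr fun x => ?_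
  simp only [Set.mem_ofPred_eq]
  rw [← sub_eq_zero (a := f x)]
  exact b.forall_coord_eq_zero_iff

theorem ne [FiniteDimensional k E'] {f g : E → E'} (hf : PolyMap k f) (hg : PolyMap k g) :
    Constr k {x | f x ≠ g x} := (eq hf hg).not

theorem singleton [FiniteDimensional k E] (a : E) : Constr k ({a} : Set E) := eq polyMap_id (polyMap_const a)

theorem of_finite [FiniteDimensional k E] (hS : S.Finite) : Constr k S :=
  (biUnion hS fun a _ => singleton a).congr fun x => by simp

end Constr

/-! ### coordinates and the prime spectrum -/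

section Spec

variable {σ τ : Type*}

/-- The point of the spectrum given by a point of affine space. -/
noncomputable def pt (x : σ → k) : PrimeSpectrum (MvPolynomial σ k) :=
  ⟨RingHom.ker (eval x), RingHom.ker_isPrime _⟩

theorem mem_pt {x : σ → k} {P : MvPolynomial σ k} : P ∈ (pt x).asIdeal ↔ eval x P = 0 := Iff.rfl

theorem pt_mem_toSet {x : σ → k} {D : PrimeSpectrum.BasicConstructibleSetData (MvPolynomial σ k)} :
    pt x ∈ D.toSet ↔ (∀ i, eval x (D.g i) = 0) ∧ eval x D.f ≠ 0 := by
  rw [PrimeSpectrum.BasicConstructibleSetData.toSet, Set.mem_sdiff, PrimeSpectrum.mem_zeroLocus,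
    PrimeSpectrum.mem_zeroLocus, Set.singleton_subset_iff, Set.range_subset_iff]
  rfl

theorem constr_preimage_pt {C : Set (PrimeSpectrum (MvPolynomial σ k))} (hC : Topology.IsConstructible C) :
    Constr k (pt ⁻¹' C) := by
  obtain ⟨T, rfl⟩ := PrimeSpectrum.exists_constructibleSetData_iff.mpr hC
  refine (Constr.biUnion_finset T (A := fun D => {x : σ → k | (∀ i, eval x (D.g i) = 0) ∧ eval x D.f ≠ 0})
    fun D _ => (Constr.forall_fin fun i => Constr.zero _ (polyMap_mvEval _)).and
      (Constr.zero _ (polyMap_mvEval _)).not).congr fun x => ?_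
  simp only [PrimeSpectrum.ConstructibleSetData.toSet, Set.mem_preimage, Set.mem_iUnion, pt_mem_toSet, Set.mem_ofPred_eq]

theorem Constr.exists_spec [Finite σ] {S : Set (σ → k)} (hS : Constr k S) :
    ∃ C : Set (PrimeSpectrum (MvPolynomial σ k)), Topology.IsConstructible C ∧ S = pt ⁻¹' C := by
  induction hS with
  | zero f hf =>
    obtain ⟨P, hP⟩ := polyMap_iff_mvEval.1 hf
    refine ⟨(PrimeSpectrum.basicOpen P : Set _)ᶜ,
      Topology.isConstructible_compl.2 PrimeSpectrum.isConstructible_basicOpen, ?_⟩
    ext x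
    simp only [Set.mem_ofPred_eq, Set.mem_preimage, Set.mem_compl_iff, SetLike.mem_coe, PrimeSpectrum.mem_basicOpen,
      mem_pt, hP, not_not]
  | compl S _ ih =>
    obtain ⟨C, hC, rfl⟩ := ih
    exact ⟨Cᶜ, Topology.isConstructible_compl.2 hC, rfl⟩
  | union S S' _ _ ih ih' =>
    obtain ⟨C, hC, rfl⟩ := ih
    obtain ⟨C', hC', rfl⟩ := ih'
    exact ⟨C ∪ C', hC.union hC', rfl⟩

/-- Normal form of a constructible set, in coordinates. -/
theorem Constr.exists_form [Finite σ] {S : Set (σ → k)} (hS : Constr k S) :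
    ∃ T : Finset (Finset (MvPolynomial σ k) × MvPolynomial σ k),
      ∀ x, x ∈ S ↔ ∃ D ∈ T, (∀ g ∈ D.1, eval x g = 0) ∧ eval x D.2 ≠ 0 := by
  classical
  obtain ⟨C, hC, rfl⟩ := hS.exists_spec
  obtain ⟨T, rfl⟩ := PrimeSpectrum.exists_constructibleSetData_iff.mpr hC
  refine ⟨Finset.image (fun D : PrimeSpectrum.BasicConstructibleSetData (MvPolynomial σ k) =>
    (Finset.univ.image D.g, D.f)) T, fun x => ?_⟩
  simp only [PrimeSpectrum.ConstructibleSetData.toSet, Set.mem_preimage, Set.mem_iUnion, pt_mem_toSet]
  constructor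
  · rintro ⟨D, hD, h1, h2⟩
    refine ⟨_, Finset.mem_image_of_mem _ hD, fun g hg => ?_, h2⟩
    obtain ⟨i, -, rfl⟩ := Finset.mem_image.1 hg
    exact h1 i
  · rintro ⟨D', hD', h1, h2⟩
    obtain ⟨D, hD, rfl⟩ := Finset.mem_image.1 hD'
    exact ⟨D, hD, fun i => h1 _ (Finset.mem_image_of_mem _ (Finset.mem_univ i)), h2⟩

theorem constr_image_pi [IsAlgClosed k] [Finite σ] [Finite τ] {S : Set (τ → k)} (hS : Constr k S)
    (v : σ → MvPolynomial τ k) : Constr k ((fun x i => eval x (v i)) '' S) := by
  obtain ⟨C, hC, rfl⟩ := hS.exists_spec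
  let f : MvPolynomial σ k →ₐ[k] MvPolynomial τ k := aeval v
  have hft : f.toRingHom.FiniteType := by
    apply RingHom.FiniteType.of_comp_finiteType (f := algebraMap k (MvPolynomial σ k))
    have h1 : f.toRingHom.comp (algebraMap k (MvPolynomial σ k)) = algebraMap k (MvPolynomial τ k) :=
      RingHom.ext fun a => f.commutes a
    rw [h1, RingHom.finiteType_algebraMap]
    infer_instance
  have hfp : f.toRingHom.FinitePresentation := RingHom.FinitePresentation.of_finiteType.mp hft
  have hev : ∀ (s : τ → k) (P : MvPolynomial σ k), eval s (f P) = eval (fun i => eval s (v i)) P := by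
    intro s P
    induction P using MvPolynomial.induction_on with
    | C a => simp [f]
    | add P Q hP hQ => simp only [map_add, hP, hQ]
    | mul_X P i hP => simp only [map_mul, hP, eval_X, f, aeval_X]
  refine (constr_preimage_pt (PrimeSpectrum.isConstructible_comap_image hfp hC)).congr fun y => ?_
  constructor
  · rintro ⟨Q, hQC, hQ⟩
    obtain ⟨T, rfl⟩ := PrimeSpectrum.exists_constructibleSetData_iff.mpr hC
    rw [PrimeSpectrum.ConstructibleSetData.toSet, Set.mem_iUnion₂] at hQC
    obtain ⟨D, hD, h1, h2⟩ := hQC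
    rw [PrimeSpectrum.mem_zeroLocus, Set.range_subset_iff] at h1
    rw [PrimeSpectrum.mem_zeroLocus, Set.singleton_subset_iff] at h2
    have h3 : D.f ∉ vanishingIdeal k (zeroLocus k Q.asIdeal) := by
      rw [MvPolynomial.IsPrime.vanishingIdeal_zeroLocus]; exact h2
    rw [mem_vanishingIdeal_iff] at h3
    push Not at h3
    obtain ⟨s, hs, hsf⟩ := h3
    rw [mem_zeroLocus_iff] at hs
    refine ⟨s, ?_, ?_⟩
    · rw [Set.mem_preimage, PrimeSpectrum.ConstructibleSetData.toSet, Set.mem_iUnion₂]
      exact ⟨D, hD, pt_mem_toSet.2 ⟨fun i => hs _ (h1 i), hsf⟩⟩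
    · funext i
      have h4 : (X i - MvPolynomial.C (y i) : MvPolynomial σ k) ∈ (pt y).asIdeal := by
        rw [mem_pt, map_sub, eval_X, eval_C, sub_self]
      rw [← hQ] at h4
      have h5 : eval s (f (X i - MvPolynomial.C (y i))) = 0 := hs _ h4
      rw [hev, map_sub, eval_X, eval_C, sub_eq_zero] at h5
      exact h5
  · rintro ⟨s, hs, rfl⟩
    refine ⟨pt s, hs, PrimeSpectrum.ext (Ideal.ext fun P => ?_)⟩
    rw [mem_pt, ← hev]
    rfl

end Spec

section Chevalley

variable [IsAlgClosed k] [FiniteDimensional k E] [FiniteDimensional k E'] [FiniteDimensional k E'']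

/-- **Chevalley's theorem.** -/
theorem Constr.image {S : Set E} (hS : Constr k S) {f : E → E'} (hf : PolyMap k f) : Constr k (f '' S) := by
  let b := (Module.finBasis k E).equivFun
  let b' := (Module.finBasis k E').equivFun
  have h1 : PolyMap k fun x => b' (f (b.symm x)) :=
    (hf.comp (polyMap_linear b.symm.toLinearMap)).linear b'.toLinearMap
  obtain ⟨v, hv⟩ := polyMap_iff_mvEval_pi.1 h1
  have h2 := constr_image_pi (hS.preimage (polyMap_linear b.symm.toLinearMap)) v
  refine (h2.preimage (polyMap_linear b'.toLinearMap)).congr fun y => ?_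
  constructor
  · rintro ⟨x, hx, e⟩
    refine ⟨b.symm x, hx, b'.injective ?_⟩
    funext i
    rw [hv]
    exact congrFun e i
  · rintro ⟨x, hx, rfl⟩
    refine ⟨b x, by simpa using hx, ?_⟩
    funext i
    have h3 := hv (b x) i
    rw [LinearEquiv.symm_apply_apply] at h3
    exact h3.symm

theorem Constr.range {f : E → E'} (hf : PolyMap k f) : Constr k (Set.range f) :=
  Set.image_univ ▸ Constr.univ.image hf

/-- Elimination of an existential quantifier. -/
theorem Constr.ex {P : E → E' → Prop} (h : Constr k {z : E × E' | P z.1 z.2}) : Constr k {x | ∃ y, P x y} :=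
  (h.image (f := fun z : E × E' => z.1) (by fun_prop)).congr fun x => by simp

/-- Elimination of a universal quantifier. -/
theorem Constr.all {P : E → E' → Prop} (h : Constr k {z : E × E' | P z.1 z.2}) : Constr k {x | ∀ y, P x y} :=
  (Constr.ex (P := fun x y => ¬ P x y) h.not).not.congr fun x => by simp

theorem Constr.image2 {S : Set E} {S' : Set E'} (hS : Constr k S) (hS' : Constr k S') {f : E → E' → E''}
    (hf : PolyMap k fun z : E × E' => f z.1 z.2) : Constr k (Set.image2 f S S') :=
  ((hS.prod hS').image hf).congr fun x => by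
    simp only [Set.mem_image, Set.mem_prod, Set.mem_image2, Prod.exists]
    exact ⟨fun ⟨a, b, h, e⟩ => ⟨a, h.1, b, h.2, e⟩, fun ⟨a, h1, b, h2, e⟩ => ⟨a, b, ⟨h1, h2⟩, e⟩⟩

end Chevalley

end Cfsg.Agent.DL.Cn
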