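import Mathlib
import Cfsg.Agent.DL.Cn.Constr

/-!
# Constructible subsets of a group with respect to a representation (helper1)

`φ : Y →* A`, `A` a finite-dimensional algebra (`Matrix N N k`, or `Matrix N N k × Matrix N N k` for graphs of
endomorphisms).  `CG k φ S` : the image of `S` is constructible.
-/

set_option autoImplicit false
set_option linter.unusedSectionVars false

namespace Cfsg.Agent.DL.Cn

open scoped Pointwise

variable (k : Type*) [Field k] {Y : Type*} [Group Y] {A A' : Type*} [Ring A] [Algebra k A] [Ring A'] [Algebra k A']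

/-- The image of `S` is constructible. -/
def CG (φ : Y →* A) (S : Set Y) : Prop := Constr k (φ '' S)

variable {k} {φ : Y →* A} {ψ : Y →* A'} {S S' : Set Y}

namespace CG

theorem congr (h : CG k φ S) (e : ∀ y, y ∈ S ↔ y ∈ S') : CG k φ S' := (Set.ext e : S = S') ▸ h

theorem empty : CG k φ ∅ := by unfold CG; rw [Set.image_empty]; exact Constr.empty

theorem union (h : CG k φ S) (h' : CG k φ S') : CG k φ (S ∪ S') := by
  unfold CG; rw [Set.image_union]; exact Constr.union' h h'

theorem iUnion {ι : Sort*} [Finite ι] {B : ι → Set Y} (h : ∀ i, CG k φ (B i)) : CG k φ (⋃ i, B i) := by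
  unfold CG; rw [Set.image_iUnion]; exact Constr.iUnion h

theorem biUnion {ι : Type*} {s : Set ι} (hs : s.Finite) {B : ι → Set Y} (h : ∀ i ∈ s, CG k φ (B i)) :
    CG k φ (⋃ i ∈ s, B i) := by
  unfold CG; rw [Set.image_iUnion₂]; exact Constr.biUnion hs h

theorem inter (hφ : Function.Injective φ) (h : CG k φ S) (h' : CG k φ S') : CG k φ (S ∩ S') := by
  unfold CG; rw [Set.image_inter hφ]; exact Constr.inter h h'

theorem diff (hφ : Function.Injective φ) (h : CG k φ S) (h' : CG k φ S') : CG k φ (S \ S') := by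
  unfold CG; rw [Set.image_sdiff hφ]; exact Constr.diff h h'

/-- cutting out by a constructible condition on the image -/
theorem sep (h : CG k φ S) {C : Set A} (hC : Constr k C) : CG k φ {y | y ∈ S ∧ φ y ∈ C} :=
  (Constr.inter h hC).congr fun a => by
    constructor
    · rintro ⟨⟨y, hy, rfl⟩, hc⟩
      exact ⟨y, ⟨hy, hc⟩, rfl⟩
    · rintro ⟨y, ⟨hy, hc⟩, rfl⟩
      exact ⟨⟨y, hy, rfl⟩, hc⟩

variable [FiniteDimensional k A] [FiniteDimensional k A']

theorem of_finite (hS : S.Finite) : CG k φ S := Constr.of_finite (hS.image _)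

theorem singleton (y : Y) : CG k φ {y} := of_finite (Set.finite_singleton y)

variable [IsAlgClosed k]

theorem mul (h : CG k φ S) (h' : CG k φ S') : CG k φ (S * S') := by
  unfold CG
  rw [Set.image_mul]
  exact Constr.image2 h h' (f := fun a b => a * b) (by fun_prop)

theorem inv (h : CG k φ S) : CG k φ S⁻¹ :=
  (Constr.ex (P := fun a b : A => b ∈ φ '' S ∧ a * b = 1)
    ((Constr.mem h (by fun_prop)).and (Constr.eq (by fun_prop) (by fun_prop)))).congr fun a => by
    constructor
    · rintro ⟨_, ⟨y, hy, rfl⟩, e⟩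
      refine ⟨y⁻¹, Set.inv_mem_inv.2 hy, ?_⟩
      calc φ y⁻¹ = a * φ y * φ y⁻¹ := by rw [e, one_mul]
        _ = a := by rw [mul_assoc, ← map_mul, mul_inv_cancel, map_one, mul_one]
    · rintro ⟨y, hy, rfl⟩
      exact ⟨φ y⁻¹, ⟨y⁻¹, hy, rfl⟩, by rw [← map_mul, mul_inv_cancel, map_one]⟩

theorem list_prod {ι : Type*} (l : List ι) {B : ι → Set Y} (h : ∀ i ∈ l, CG k φ (B i)) : CG k φ (l.map B).prod := by
  induction l with
  | nil => exact singleton 1
  | cons a l ih =>
    rw [List.map_cons, List.prod_cons]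
    exact (h a List.mem_cons_self).mul (ih fun i hi => h i (List.mem_cons_of_mem _ hi))

theorem pow (h : CG k φ S) (n : ℕ) : CG k φ (S ^ n) := by
  induction n with
  | zero => exact singleton 1
  | succ n ih => rw [pow_succ]; exact ih.mul h

/-- two-sided translates -/
theorem translate (h : CG k φ S) (a b : Y) : CG k φ {y | a⁻¹ * y * b⁻¹ ∈ S} :=
  (((singleton a).mul h).mul (singleton b)).congr fun y => by
    constructor
    · rintro ⟨_, ⟨_, rfl, s, hs, rfl⟩, _, rfl, rfl⟩
      show _⁻¹ * (_ * s * _) * _⁻¹ ∈ S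
      simpa [mul_assoc] using hs
    · intro hy
      exact ⟨_, ⟨a, rfl, _, hy, rfl⟩, b, rfl, by group⟩

/-- a set parametrised by a constructible set -/
theorem of_param {E : Type*} [AddCommGroup E] [Module k E] [FiniteDimensional k E] {C : Set E} (hC : Constr k C)
    {f : E → A} (hf : PolyMap k f) (h : ∀ a, a ∈ φ '' S ↔ ∃ c ∈ C, f c = a) : CG k φ S :=
  (hC.image hf).congr fun a => (h a).symm

/-- a set parametrised by a vector space -/
theorem range {E : Type*} [AddCommGroup E] [Module k E] [FiniteDimensional k E] {x : E → Y}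
    (hx : PolyMap k fun c => φ (x c)) : CG k φ (Set.range x) := by
  unfold CG
  rw [← Set.range_comp]
  exact Constr.range hx

theorem fst (h : CG k (φ.prod ψ) S) : CG k φ S :=
  (Constr.image h (f := fun z : A × A' => z.1) (by fun_prop)).congr fun a => by
    rw [Set.image_image]; rfl

theorem snd (h : CG k (φ.prod ψ) S) : CG k ψ S :=
  (Constr.image h (f := fun z : A × A' => z.2) (by fun_prop)).congr fun a => by
    rw [Set.image_image]; rfl

/-- cutting out by a constructible condition on the pair of images -/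
theorem sep₂ (h : CG k (φ.prod ψ) S) {C : Set (A × A')} (hC : Constr k C) :
    CG k φ {y | y ∈ S ∧ (φ y, ψ y) ∈ C} := (h.sep hC).fst

/-- **The Deligne-Lusztig variety is constructible**: `G` with the graph of `F` and `V` are constructible. -/
theorem dl (hφ : Function.Injective φ) {F : Y →* Y} {G V : Set Y} (hG : CG k (φ.prod (φ.comp F)) G)
    (hV : CG k φ V) : CG k φ {y | y ∈ G ∧ y⁻¹ * F y ∈ V} := by
  have h1 : Constr k {z : A × A | ∃ c : A, c ∈ φ '' V ∧ z.1 * c = z.2} :=
    Constr.ex (P := fun (z : A × A) (c : A) => c ∈ φ '' V ∧ z.1 * c = z.2)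
      ((Constr.mem hV (by fun_prop)).and (Constr.eq (by fun_prop) (by fun_prop)))
  refine (hG.sep₂ h1).congr fun y => and_congr_right fun _ => ?_
  constructor
  · rintro ⟨_, ⟨v, hv, rfl⟩, e⟩
    have h2 : y * v = F y := hφ (by rw [map_mul]; exact e)
    rw [← h2, inv_mul_cancel_left]
    exact hv
  · intro hv
    exact ⟨_, ⟨_, hv, rfl⟩, by
      show φ y * φ (y⁻¹ * F y) = φ (F y)
      rw [← map_mul, mul_inv_cancel_left]⟩

/-- the image of a constructible set under an endomorphism with constructible graph -/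
theorem image (hφ : Function.Injective φ) {F : Y →* Y} {G V : Set Y} (hG : CG k (φ.prod (φ.comp F)) G)
    (hV : CG k φ V) (hVG : V ⊆ G) : CG k φ (F '' V) := by
  have h1 := (hG.sep (Constr.mem hV (f := fun z : A × A => z.1) (by fun_prop))).snd
  unfold CG at h1 ⊢
  refine h1.congr fun a => ?_
  constructor
  · rintro ⟨y, ⟨-, v, hv, e⟩, rfl⟩
    exact ⟨F y, ⟨y, hφ e ▸ hv, rfl⟩, rfl⟩
  · rintro ⟨_, ⟨v, hv, rfl⟩, rfl⟩
    exact ⟨v, ⟨hVG hv, v, hv, rfl⟩, rfl⟩

end CG

/-- The torus `(kˣ)^R` : a homomorphism whose image is given by Laurent monomials is constructible. -/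
theorem cg_range_torus [IsAlgClosed k] [FiniteDimensional k A] {R : Type*} [Fintype R] (τ : (R → kˣ) → Y)
    {f : (R → k) × (R → k) → A} (hf : PolyMap k f)
    (h : ∀ c, φ (τ c) = f (fun j => (c j : k), fun j => ((c j)⁻¹ : kˣ))) : CG k φ (Set.range τ) := by
  refine CG.of_param (C := {z : (R → k) × (R → k) | z.1 * z.2 = 1}) (Constr.eq (by fun_prop) (by fun_prop)) hf
    fun a => ?_
  constructor
  · rintro ⟨_, ⟨c, rfl⟩, rfl⟩
    refine ⟨_, ?_, (h c).symm⟩
    funext j
    exact (c j).mul_inv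
  · rintro ⟨z, hz, rfl⟩
    have h1 : ∀ j, z.1 j * z.2 j = 1 := fun j => congrFun hz j
    refine ⟨τ fun j => ⟨z.1 j, z.2 j, h1 j, by rw [mul_comm]; exact h1 j⟩, ⟨_, rfl⟩, ?_⟩
    rw [h]
    rfl

/-- A Laurent monomial is a polynomial function of the coordinates and their inverses. -/
theorem exists_poly_zpow {R : Type*} [Fintype R] (m : R → ℤ) :
    ∃ f : (R → k) × (R → k) → k, PolyMap k f ∧ ∀ c : R → kˣ,
      ((∏ j, c j ^ m j : kˣ) : k) = f (fun j => (c j : k), fun j => ((c j)⁻¹ : kˣ)) := by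
  refine ⟨fun z => ∏ j, (z.1 j ^ (m j).toNat * z.2 j ^ (-m j).toNat), by fun_prop, fun c => ?_⟩
  rw [Units.coe_prod]
  refine Finset.prod_congr rfl fun j _ => ?_
  rw [← Units.val_pow_eq_pow_val, ← Units.val_pow_eq_pow_val, ← Units.val_mul, inv_pow, ← zpow_natCast,
    ← zpow_natCast, ← zpow_neg, ← zpow_add]
  congr 2
  omega

end Cfsg.Agent.DL.Cn
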